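/-
Element calculus for filtered complexes.
-/
import Groth.Prelude.Def_SpSeq
import Groth.Agent.Lib.IndCof.Basic
import Mathlib.Algebra.Homology.Refinements

set_option autoImplicit false

open CategoryTheory CategoryTheory.Limits

namespace Groth.Agent.Lib.FilCx.Basic

open Groth.Agent.Lib.IndCof.Basic (mem_image_iff factors_local le_of_mem)

universe v u

variable {A : Type u} [Category.{v} A] [Abelian A] {X Y T : A}

lemma ext_mem {S S' : Subobject X} (h : ∀ ⦃T : A⦄ (z : T ⟶ X), S.Factors z ↔ S'.Factors z) : S = S' :=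
  le_antisymm (le_of_mem fun _ z => (h z).1) (le_of_mem fun _ z => (h z).2)

lemma mem_top (z : T ⟶ X) : (⊤ : Subobject X).Factors z := Subobject.top_factors z

lemma mem_bot {z : T ⟶ X} : (⊥ : Subobject X).Factors z ↔ z = 0 := Subobject.bot_factors_iff_zero z

lemma mem_neg {S : Subobject X} {z : T ⟶ X} (h : S.Factors z) : S.Factors (-z) := by
  rw [← neg_one_zsmul]; exact Groth.Agent.Lib.IndCof.Basic.mem_zsmul h _

lemma mem_sub {S : Subobject X} {z w : T ⟶ X} (h : S.Factors z) (h' : S.Factors w) : S.Factors (z - w) := by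
  rw [sub_eq_add_neg]; exact Subobject.factors_add _ _ h (mem_neg h')

lemma mem_comp {S : Subobject X} {z : T ⟶ X} (h : S.Factors z) {T' : A} (e : T' ⟶ T) : S.Factors (e ≫ z) :=
  Subobject.factors_of_factors_right e h

lemma mem_arrow_comp (S : Subobject X) (y : T ⟶ (S : A)) : S.Factors (y ≫ S.arrow) :=
  Subobject.factors_of_factors_right _ ((Subobject.factors_iff _ _).2 ⟨𝟙 _, by simp⟩)

lemma mem_inf {S S' : Subobject X} {z : T ⟶ X} : (S ⊓ S').Factors z ↔ S.Factors z ∧ S'.Factors z :=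
  Subobject.inf_factors z

lemma mem_sup {S S' : Subobject X} {z : T ⟶ X} :
    (S ⊔ S').Factors z ↔ ∃ (T' : A) (e : T' ⟶ T) (_ : Epi e) (a b : T' ⟶ X),
      S.Factors a ∧ S'.Factors b ∧ e ≫ z = a + b := by
  have key : S ⊔ S' = imageSubobject (biprod.desc S.arrow S'.arrow) := by
    refine le_antisymm (sup_le ?_ ?_) (le_of_mem fun T z hz => ?_)
    · exact Subobject.le_of_factors ((mem_image_iff _ _).2
        ⟨_, 𝟙 _, inferInstance, biprod.inl, by simp⟩)
    · exact Subobject.le_of_factors ((mem_image_iff _ _).2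
        ⟨_, 𝟙 _, inferInstance, biprod.inr, by simp⟩)
    · obtain ⟨T', e, he, y, hy⟩ := (mem_image_iff _ _).1 hz
      refine factors_local _ e ?_
      rw [hy, biprod.desc_eq, Preadditive.comp_add, ← Category.assoc, ← Category.assoc]
      exact Subobject.factors_add _ _
        (Subobject.sup_factors_of_factors_left (mem_arrow_comp _ _))
        (Subobject.sup_factors_of_factors_right (mem_arrow_comp _ _))
  constructor
  · intro h
    rw [key, mem_image_iff] at h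
    obtain ⟨T', e, he, y, hy⟩ := h
    exact ⟨T', e, he, (y ≫ biprod.fst) ≫ S.arrow, (y ≫ biprod.snd) ≫ S'.arrow,
      mem_arrow_comp _ _, mem_arrow_comp _ _, by
        rw [hy, biprod.desc_eq, Preadditive.comp_add, Category.assoc, Category.assoc]⟩
  · rintro ⟨T', e, he, a, b, ha, hb, hz⟩
    refine factors_local _ e ?_
    rw [hz]
    exact Subobject.factors_add _ _ (Subobject.sup_factors_of_factors_left ha)
      (Subobject.sup_factors_of_factors_right hb)

/-- Image of a subobject. -/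
lemma mem_image_arrow (S : Subobject X) (f : X ⟶ Y) (z : T ⟶ Y) :
    (imageSubobject (S.arrow ≫ f)).Factors z ↔
      ∃ (T' : A) (e : T' ⟶ T) (_ : Epi e) (b : T' ⟶ X), S.Factors b ∧ e ≫ z = b ≫ f := by
  rw [mem_image_iff]
  constructor
  · rintro ⟨T', e, he, y, hy⟩
    exact ⟨T', e, he, y ≫ S.arrow, mem_arrow_comp _ _, by rw [hy, Category.assoc]⟩
  · rintro ⟨T', e, he, b, hb, hy⟩
    exact ⟨T', e, he, S.factorThru b hb, by rw [hy, Subobject.factorThru_arrow_assoc]⟩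

variable (K : SpSeq.FilCx A)

instance mono_arrow_f (p n : ℤ) : Mono ((K.fil p).arrow.f n) :=
  inferInstanceAs (Mono ((HomologicalComplex.eval A (ComplexShape.up ℤ) n).map (K.fil p).arrow))

lemma mem_filX {p n : ℤ} {x : T ⟶ K.obj.X n} :
    (K.filX p n).Factors x ↔ ∃ y : T ⟶ (K.fil p : CochainComplex A ℤ).X n, y ≫ (K.fil p).arrow.f n = x :=
  Subobject.mk_factors_iff _ _

lemma filX_le {p q : ℤ} (n : ℤ) (h : p ≤ q) {x : T ⟶ K.obj.X n} (hx : (K.filX q n).Factors x) :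
    (K.filX p n).Factors x :=
  Subobject.factors_of_le x (K.filX_anti n h) hx

lemma filX_d {p n : ℤ} {x : T ⟶ K.obj.X n} (hx : (K.filX p n).Factors x) (n' : ℤ) :
    (K.filX p n').Factors (x ≫ K.obj.d n n') := by
  obtain ⟨y, rfl⟩ := (mem_filX K).1 hx
  exact (mem_filX K).2 ⟨y ≫ (K.fil p : CochainComplex A ℤ).d n n', by
    rw [Category.assoc, Category.assoc, HomologicalComplex.Hom.comm]⟩

lemma mem_ZSub {r : ℕ} {p n p' n' : ℤ} (hp : p + r = p') (hn : n + 1 = n') {z : T ⟶ K.obj.X n} :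
    (K.ZSub r p n).Factors z ↔ ∃ (T' : A) (e : T' ⟶ T) (_ : Epi e) (x c : T' ⟶ K.obj.X n),
      (K.filX p n).Factors x ∧ (K.filX p' n').Factors (x ≫ K.obj.d n n') ∧
      (K.filX (p + 1) n).Factors c ∧ e ≫ z = x + c := by
  subst hp hn
  rw [SpSeq.FilCx.ZSub, mem_sup]
  simp only [mem_inf, Limits.pullback_factors_iff, and_assoc]

lemma mem_BSub {r : ℕ} {p n q m : ℤ} (hq : q + r = p + 1) (hm : m + 1 = n) {z : T ⟶ K.obj.X n} :
    (K.BSub r p n).Factors z ↔ ∃ (T' : A) (e : T' ⟶ T) (_ : Epi e) (b : T' ⟶ K.obj.X m) (c : T' ⟶ K.obj.X n),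
      (K.filX q m).Factors b ∧ (K.filX p n).Factors (b ≫ K.obj.d m n) ∧
      (K.filX (p + 1) n).Factors c ∧ e ≫ z = b ≫ K.obj.d m n + c := by
  obtain rfl : q = p - r + 1 := by omega
  obtain rfl : m = n - 1 := by omega
  rw [SpSeq.FilCx.BSub, mem_sup]
  constructor
  · rintro ⟨T', e, he, a, c, ha, hc, hz⟩
    obtain ⟨ha1, ha2⟩ := mem_inf.1 ha
    obtain ⟨T'', e', he', b, hb, hab⟩ := (mem_image_arrow _ _ _).1 ha2
    exact ⟨T'', e' ≫ e, inferInstance, b, e' ≫ c, hb, hab ▸ mem_comp ha1 e', mem_comp hc e', by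
      rw [Category.assoc, hz, Preadditive.comp_add, hab]⟩
  · rintro ⟨T', e, he, b, c, hb, hbd, hc, hz⟩
    exact ⟨T', e, he, b ≫ K.obj.d (n - 1) n, c, mem_inf.2 ⟨hbd, (mem_image_arrow _ _ _).2
      ⟨T', 𝟙 _, inferInstance, b, hb, Category.id_comp _⟩⟩, hc, hz⟩

lemma mem_ZTop {p n n' : ℤ} (hn : n + 1 = n') {z : T ⟶ K.obj.X n} :
    (K.ZTop p n).Factors z ↔ ∃ (T' : A) (e : T' ⟶ T) (_ : Epi e) (x c : T' ⟶ K.obj.X n),
      (K.filX p n).Factors x ∧ x ≫ K.obj.d n n' = 0 ∧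
      (K.filX (p + 1) n).Factors c ∧ e ≫ z = x + c := by
  subst hn
  rw [SpSeq.FilCx.ZTop, mem_sup]
  simp only [mem_inf, kernelSubobject_factors_iff, and_assoc]

lemma mem_BBot {p n m : ℤ} (hm : m + 1 = n) {z : T ⟶ K.obj.X n} :
    (K.BBot p n).Factors z ↔ ∃ (T' : A) (e : T' ⟶ T) (_ : Epi e) (b : T' ⟶ K.obj.X m) (c : T' ⟶ K.obj.X n),
      (K.filX p n).Factors (b ≫ K.obj.d m n) ∧
      (K.filX (p + 1) n).Factors c ∧ e ≫ z = b ≫ K.obj.d m n + c := by
  obtain rfl : m = n - 1 := by omega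
  rw [SpSeq.FilCx.BBot, mem_sup]
  constructor
  · rintro ⟨T', e, he, a, c, ha, hc, hz⟩
    obtain ⟨ha1, ha2⟩ := mem_inf.1 ha
    obtain ⟨T'', e', he', b, hab⟩ := (mem_image_iff _ _).1 ha2
    exact ⟨T'', e' ≫ e, inferInstance, b, e' ≫ c, hab ▸ mem_comp ha1 e', mem_comp hc e', by
      rw [Category.assoc, hz, Preadditive.comp_add, hab]⟩
  · rintro ⟨T', e, he, b, c, hbd, hc, hz⟩
    exact ⟨T', e, he, b ≫ K.obj.d (n - 1) n, c, mem_inf.2 ⟨hbd, (mem_image_iff _ _).2
      ⟨T', 𝟙 _, inferInstance, b, Category.id_comp _⟩⟩, hc, hz⟩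

section cls

variable {Z B : Subobject X} (h : B ≤ Z)

/-- The projection to `Z / B`. -/
noncomputable def qπ : (Z : A) ⟶ SpSeq.subquot Z B h := cokernel.π (B.ofLE Z h)

instance epi_qπ : Epi (qπ h) := inferInstanceAs (Epi (cokernel.π (B.ofLE Z h)))

lemma ofLE_qπ : B.ofLE Z h ≫ qπ h = 0 := cokernel.condition _

/-- The class of a member of `Z` in `Z / B`. -/
noncomputable def cls (z : T ⟶ X) (hz : Z.Factors z) : T ⟶ SpSeq.subquot Z B h :=
  Z.factorThru z hz ≫ qπ h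

lemma comp_cls {T' : A} (e : T' ⟶ T) (z : T ⟶ X) (hz : Z.Factors z) :
    e ≫ cls h z hz = cls h (e ≫ z) (mem_comp hz e) := by
  unfold cls
  rw [← Category.assoc]
  congr 1
  apply (cancel_mono Z.arrow).1
  simp

lemma cls_congr {z z' : T ⟶ X} (hz : Z.Factors z) (hz' : Z.Factors z') (e : z = z') :
    cls h z hz = cls h z' hz' := by
  subst e; rfl

lemma cls_add {z z' : T ⟶ X} (hz : Z.Factors z) (hz' : Z.Factors z') :
    cls h (z + z') (Subobject.factors_add _ _ hz hz') = cls h z hz + cls h z' hz' := by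
  unfold cls
  rw [← Preadditive.add_comp]
  congr 1
  apply (cancel_mono Z.arrow).1
  simp [Preadditive.add_comp]

lemma cls_eq_zero_iff {z : T ⟶ X} (hz : Z.Factors z) : cls h z hz = 0 ↔ B.Factors z := by
  constructor
  · intro hc
    have : Mono (B.ofLE Z h) := inferInstance
    refine (Subobject.factors_iff _ _).2 ⟨Abelian.monoLift (B.ofLE Z h) (Z.factorThru z hz) hc, ?_⟩
    have h1 := Abelian.monoLift_comp (B.ofLE Z h) (Z.factorThru z hz) hc =≫ Z.arrow
    rw [Category.assoc, Subobject.ofLE_arrow, Subobject.factorThru_arrow] at h1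
    exact h1
  · intro hB
    have : Z.factorThru z hz = B.factorThru z hB ≫ B.ofLE Z h := by
      apply (cancel_mono Z.arrow).1
      simp
    rw [cls, this, Category.assoc, ofLE_qπ, comp_zero]

lemma cls_eq_iff {z z' : T ⟶ X} (hz : Z.Factors z) (hz' : Z.Factors z') :
    cls h z hz = cls h z' hz' ↔ B.Factors (z - z') := by
  have e : cls h z hz = cls h (z - z') (mem_sub hz hz') + cls h z' hz' := by
    rw [← cls_add]
    exact cls_congr h _ _ (sub_add_cancel z z').symm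
  rw [e, ← cls_eq_zero_iff h (mem_sub hz hz'), add_eq_right]

lemma exists_cls (q : T ⟶ SpSeq.subquot Z B h) :
    ∃ (T' : A) (e : T' ⟶ T) (_ : Epi e) (z : T' ⟶ X) (hz : Z.Factors z), e ≫ q = cls h z hz := by
  obtain ⟨T', e, he, y, hy⟩ := surjective_up_to_refinements_of_epi (qπ h) q
  refine ⟨T', e, he, y ≫ Z.arrow, mem_arrow_comp _ _, ?_⟩
  rw [cls, hy]
  congr 1
  apply (cancel_mono Z.arrow).1
  simp

lemma isZero_subquot (h' : Z ≤ B) : IsZero (SpSeq.subquot Z B h) := by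
  rw [IsZero.iff_id_eq_zero]
  obtain ⟨T', e, he, z, hz, hq⟩ := exists_cls h (𝟙 (SpSeq.subquot Z B h))
  rw [← cancel_epi e, hq, comp_zero]
  exact (cls_eq_zero_iff h hz).2 (Subobject.factors_of_le z h' hz)

end cls

section homology

/-- The class of a cycle in degree `n`. -/
noncomputable def hcls {n n' : ℤ} (hn : n + 1 = n') (L : CochainComplex A ℤ) (z : T ⟶ L.X n)
    (hz : z ≫ L.d n n' = 0) : T ⟶ L.homology n :=
  L.liftCycles z n' (by simp [hn]) hz ≫ L.homologyπ n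

variable {n n' m : ℤ} (hn : n + 1 = n') (hm : m + 1 = n) (L : CochainComplex A ℤ)

include hm in
lemma hcls_eq_zero_iff (z : T ⟶ L.X n) (hz : z ≫ L.d n n' = 0) :
    hcls hn L z hz = 0 ↔
      ∃ (T' : A) (e : T' ⟶ T) (_ : Epi e) (b : T' ⟶ L.X m), e ≫ z = b ≫ L.d m n :=
  L.liftCycles_comp_homologyπ_eq_zero_iff_up_to_refinements m n n' (by simp; omega) (by simp [hn]) z hz

lemma exists_hcls (γ : T ⟶ L.homology n) :
    ∃ (T' : A) (e : T' ⟶ T) (_ : Epi e) (z : T' ⟶ L.X n) (hz : z ≫ L.d n n' = 0), e ≫ γ = hcls hn L z hz :=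
  L.eq_liftCycles_homologyπ_up_to_refinements γ n' (by simp [hn])

lemma hcls_map {L' : CochainComplex A ℤ} (φ : L ⟶ L') (z : T ⟶ L.X n) (hz : z ≫ L.d n n' = 0) :
    hcls hn L z hz ≫ HomologicalComplex.homologyMap φ n =
      hcls hn L' (z ≫ φ.f n) (by
        rw [Category.assoc, HomologicalComplex.Hom.comm, reassoc_of% hz, zero_comp]) := by
  simp [hcls, HomologicalComplex.homologyπ_naturality, HomologicalComplex.liftCycles_comp_cyclesMap_assoc]

lemma comp_hcls {T' : A} (e : T' ⟶ T) (z : T ⟶ L.X n) (hz : z ≫ L.d n n' = 0) :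
    e ≫ hcls hn L z hz = hcls hn L (e ≫ z) (by rw [Category.assoc, hz, comp_zero]) := by
  simp [hcls, HomologicalComplex.comp_liftCycles_assoc]

lemma hcls_add (z z' : T ⟶ L.X n) (hz : z ≫ L.d n n' = 0) (hz' : z' ≫ L.d n n' = 0) :
    hcls hn L (z + z') (by rw [Preadditive.add_comp, hz, hz', add_zero]) =
      hcls hn L z hz + hcls hn L z' hz' := by
  simp only [hcls]
  refine Eq.trans ?_ (Preadditive.add_comp _ _ _ _ _ _)
  congr 1
  apply (cancel_mono (L.iCycles n)).1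
  simp [Preadditive.add_comp]

lemma hcls_congr {z z' : T ⟶ L.X n} (hz : z ≫ L.d n n' = 0) (hz' : z' ≫ L.d n n' = 0) (e : z = z') :
    hcls hn L z hz = hcls hn L z' hz' := by
  subst e; rfl

lemma mem_filH {p : ℤ} {γ : T ⟶ K.obj.homology n} :
    (K.filH p n).Factors γ ↔ ∃ (T' : A) (e : T' ⟶ T) (_ : Epi e) (z : T' ⟶ K.obj.X n)
      (hz : z ≫ K.obj.d n n' = 0), (K.filX p n).Factors z ∧ e ≫ γ = hcls hn K.obj z hz := by
  rw [SpSeq.FilCx.filH, mem_image_iff]
  constructor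
  · rintro ⟨T', e, he, δ, hδ⟩
    obtain ⟨T'', e', he', y, hy, hy'⟩ := exists_hcls hn (K.fil p : CochainComplex A ℤ) δ
    refine ⟨T'', e' ≫ e, inferInstance, y ≫ (K.fil p).arrow.f n, ?_, (mem_filX K).2 ⟨y, rfl⟩, ?_⟩
    · rw [Category.assoc, HomologicalComplex.Hom.comm, reassoc_of% hy, zero_comp]
    · rw [Category.assoc, hδ, ← Category.assoc, hy', hcls_map]
  · rintro ⟨T', e, he, z, hz, hzp, hγ⟩
    obtain ⟨y, rfl⟩ := (mem_filX K).1 hzp
    have hy : y ≫ (K.fil p : CochainComplex A ℤ).d n n' = 0 := by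
      rw [← cancel_mono ((K.fil p).arrow.f n'), zero_comp, Category.assoc,
        ← HomologicalComplex.Hom.comm, ← Category.assoc]
      exact hz
    exact ⟨T', e, he, hcls hn _ y hy, by rw [hγ, hcls_map]⟩

end homology

end Groth.Agent.Lib.FilCx.Basic
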