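/-
Convergence criteria for the spectral sequence of a filtered complex.
-/
import Groth.Agent.Lib.FilCx.Basic
import Mathlib.Data.Int.Interval
import Mathlib.Order.Bounds.Basic

set_option autoImplicit false

open CategoryTheory CategoryTheory.Limits

namespace Groth.Agent.Lib.FilCx.Conv

open Groth.Agent.Lib.IndCof.Basic (factors_local le_of_mem)
open Groth.Agent.Lib.FilCx.Basic

universe v u

variable {A : Type u} [Category.{v} A] [Abelian A] {T : A} (K : SpSeq.FilCx A)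

/-- Cycles of `F^p` bound in `F^p`. -/
def Null (p n : ℤ) : Prop :=
  ∀ ⦃T : A⦄ (m n' : ℤ) (_ : m + 1 = n) (_ : n + 1 = n') (z : T ⟶ K.obj.X n), (K.filX p n).Factors z →
    z ≫ K.obj.d n n' = 0 → ∃ (T' : A) (e : T' ⟶ T) (_ : Epi e) (b : T' ⟶ K.obj.X m),
      (K.filX p m).Factors b ∧ e ≫ z = b ≫ K.obj.d m n

/-- Boundaries lying in `F^p` bound in `F^p`. -/
def Inj (p n : ℤ) : Prop :=
  ∀ ⦃T : A⦄ (m : ℤ) (_ : m + 1 = n) (k : T ⟶ K.obj.X m), (K.filX p n).Factors (k ≫ K.obj.d m n) →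
    ∃ (T' : A) (e : T' ⟶ T) (_ : Epi e) (b : T' ⟶ K.obj.X m),
      (K.filX p m).Factors b ∧ e ≫ k ≫ K.obj.d m n = b ≫ K.obj.d m n

/-- Every class comes from `F^p`. -/
def Surj (p n : ℤ) : Prop :=
  ∀ ⦃T : A⦄ (m n' : ℤ) (_ : m + 1 = n) (_ : n + 1 = n') (z : T ⟶ K.obj.X n), z ≫ K.obj.d n n' = 0 →
    ∃ (T' : A) (e : T' ⟶ T) (_ : Epi e) (y : T' ⟶ K.obj.X n) (k : T' ⟶ K.obj.X m),
      (K.filX p n).Factors y ∧ y ≫ K.obj.d n n' = 0 ∧ e ≫ z = y + k ≫ K.obj.d m n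

variable {K}

lemma Null.inj {p n : ℤ} (h : Null K p n) : Inj K p n := fun T m hm k hk => by
  exact h m (n + 1) hm rfl (k ≫ K.obj.d m n) hk (by rw [Category.assoc, K.obj.d_comp_d, comp_zero])

lemma null_of_bot {p n : ℤ} (h : K.filX p n = ⊥) : Null K p n := fun T m n' _ _ z hz _ => by
  rw [h, mem_bot] at hz
  exact ⟨T, 𝟙 T, inferInstance, 0, Subobject.factors_zero, by rw [hz]; simp⟩

lemma inj_of_top {p n : ℤ} (h : K.filX p (n - 1) = ⊤) : Inj K p n := fun T m hm k _ => by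
  obtain rfl : m = n - 1 := by omega
  exact ⟨T, 𝟙 T, inferInstance, k, h ▸ mem_top k, Category.id_comp _⟩

lemma surj_of_top {p n : ℤ} (h : K.filX p n = ⊤) : Surj K p n := fun T m n' _ _ z hz =>
  ⟨T, 𝟙 T, inferInstance, z, 0, h ▸ mem_top z, hz, by simp⟩

lemma null_of_isZero {p n : ℤ} (h : IsZero ((K.fil p : CochainComplex A ℤ).homology n)) : Null K p n := by
  intro T m n' hm hn z hz hz0
  obtain ⟨y, rfl⟩ := (mem_filX K).1 hz
  have hy : y ≫ (K.fil p : CochainComplex A ℤ).d n n' = 0 := by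
    rw [← cancel_mono ((K.fil p).arrow.f n'), zero_comp, Category.assoc, ← HomologicalComplex.Hom.comm,
      ← Category.assoc]
    exact hz0
  obtain ⟨T', e, he, b, hb⟩ := (hcls_eq_zero_iff hn hm _ y hy).1 (h.eq_of_tgt _ _)
  refine ⟨T', e, he, b ≫ (K.fil p).arrow.f m, (mem_filX K).2 ⟨b, rfl⟩, ?_⟩
  rw [reassoc_of% hb, Category.assoc, HomologicalComplex.Hom.comm]

lemma inj_of_mono {p n : ℤ} [Mono (HomologicalComplex.homologyMap (K.fil p).arrow n)] : Inj K p n := by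
  intro T m hm k hk
  obtain ⟨y, hy⟩ := (mem_filX K).1 hk
  have hy0 : y ≫ (K.fil p : CochainComplex A ℤ).d n (n + 1) = 0 := by
    rw [← cancel_mono ((K.fil p).arrow.f (n + 1)), zero_comp, Category.assoc,
      ← HomologicalComplex.Hom.comm, ← Category.assoc, hy, Category.assoc, K.obj.d_comp_d, comp_zero]
  have h0 : hcls rfl _ y hy0 = 0 := by
    rw [← cancel_mono (HomologicalComplex.homologyMap (K.fil p).arrow n), zero_comp, hcls_map,
      hcls_eq_zero_iff rfl hm]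
    exact ⟨T, 𝟙 T, inferInstance, k, by rw [Category.id_comp, hy]⟩
  obtain ⟨T', e, he, b, hb⟩ := (hcls_eq_zero_iff rfl hm _ y hy0).1 h0
  refine ⟨T', e, he, b ≫ (K.fil p).arrow.f m, (mem_filX K).2 ⟨b, rfl⟩, ?_⟩
  rw [← hy, reassoc_of% hb, Category.assoc, HomologicalComplex.Hom.comm]

lemma surj_of_epi {p n : ℤ} [Epi (HomologicalComplex.homologyMap (K.fil p).arrow n)] : Surj K p n := by
  intro T m n' hm hn z hz
  obtain ⟨T₁, e₁, he₁, γ, hγ⟩ := surjective_up_to_refinements_of_epi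
    (HomologicalComplex.homologyMap (K.fil p).arrow n) (hcls hn K.obj z hz)
  obtain ⟨T₂, e₂, he₂, y, hy, hγy⟩ := exists_hcls hn _ γ
  have h1 : hcls hn K.obj ((e₂ ≫ e₁) ≫ z) (by rw [Category.assoc, hz, comp_zero]) =
      hcls hn K.obj (y ≫ (K.fil p).arrow.f n) (by
        rw [Category.assoc, HomologicalComplex.Hom.comm, reassoc_of% hy, zero_comp]) := by
    rw [← comp_hcls hn K.obj (e₂ ≫ e₁) z hz, Category.assoc, hγ, ← Category.assoc, hγy, hcls_map]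
  obtain ⟨T₃, e₃, he₃, k, hk⟩ :=
    (K.obj.liftCycles_comp_homologyπ_eq_iff_up_to_refinements m n n' (by simp; omega) (by simp [hn]) _ _ _ _).1 h1
  refine ⟨T₃, e₃ ≫ e₂ ≫ e₁, inferInstance, e₃ ≫ y ≫ (K.fil p).arrow.f n, k,
    (mem_filX K).2 ⟨e₃ ≫ y, Category.assoc _ _ _⟩, ?_, ?_⟩
  · rw [Category.assoc, Category.assoc, HomologicalComplex.Hom.comm, reassoc_of% hy, zero_comp, comp_zero]
  · simpa only [Category.assoc] using hk

/-- The vanishing and bijectivity hypotheses. -/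
structure Edge (K : SpSeq.FilCx A) : Prop where
  null : ∀ n : ℤ, ∃ p₀ : ℤ, ∀ p, p₀ ≤ p → Null K p n
  inj : ∀ n : ℤ, ∃ p₁ : ℤ, ∀ p, p ≤ p₁ → Inj K p n
  surj : ∀ n : ℤ, ∃ p₁ : ℤ, ∀ p, p ≤ p₁ → Surj K p n

lemma edge_of_homology (h0 : ∀ n : ℤ, ∃ p₀ : ℤ, ∀ p : ℤ, p₀ ≤ p → IsZero ((K.fil p : CochainComplex A ℤ).homology n))
    (h1 : ∀ n : ℤ, ∃ p₁ : ℤ, ∀ p : ℤ, p ≤ p₁ → IsIso (HomologicalComplex.homologyMap (K.fil p).arrow n)) :
    Edge K where
  null n := (h0 n).imp fun p₀ h p hp => null_of_isZero (h p hp)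
  inj n := (h1 n).imp fun p₁ h p hp => by have := h p hp; exact inj_of_mono
  surj n := (h1 n).imp fun p₁ h p hp => by have := h p hp; exact surj_of_epi

lemma filX_eq_top {a p n : ℤ} (h : K.filX a n = ⊤) (hp : p ≤ a) : K.filX p n = ⊤ :=
  top_le_iff.1 (h.ge.trans (K.filX_anti n hp))

lemma filX_eq_bot {b p n : ℤ} (h : K.filX b n = ⊥) (hp : b ≤ p) : K.filX p n = ⊥ :=
  le_bot_iff.1 ((K.filX_anti n hp).trans h.le)

lemma edge_of_finite (hK : ∀ n : ℤ, (K.XFil n).IsFinite) : Edge K where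
  null n := by
    obtain ⟨-, b, hb⟩ := hK n
    exact ⟨b, fun p hp => null_of_bot (filX_eq_bot hb hp)⟩
  inj n := by
    obtain ⟨⟨a, ha⟩, -⟩ := hK (n - 1)
    exact ⟨a, fun p hp => inj_of_top (filX_eq_top ha hp)⟩
  surj n := by
    obtain ⟨⟨a, ha⟩, -⟩ := hK n
    exact ⟨a, fun p hp => surj_of_top (filX_eq_top ha hp)⟩

lemma ZTop_le_ZSub (r : ℕ) (p n : ℤ) : K.ZTop p n ≤ K.ZSub r p n :=
  sup_le_sup_right (inf_le_inf_left _ (SpSeq.FilCx.kernelSubobject_le_pullback _ _)) _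

lemma BSub_le_BBot (r : ℕ) (p n : ℤ) : K.BSub r p n ≤ K.BBot p n :=
  sup_le_sup_right (inf_le_inf_left _ (imageSubobject_comp_le _ _)) _

lemma exists_ZSub_eq (hK : Edge K) (p n : ℤ) : ∃ r₀ : ℕ, ∀ r, r₀ ≤ r → K.ZSub r p n = K.ZTop p n := by
  obtain ⟨p₀, hp₀⟩ := hK.null (n + 1)
  refine ⟨(p₀ - p).toNat + 1, fun r hr => le_antisymm (le_of_mem fun T z hz => ?_) (ZTop_le_ZSub r p n)⟩
  obtain ⟨T', e, he, x, c, hx, hdx, hc, hz'⟩ := (mem_ZSub K rfl rfl).1 hz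
  obtain ⟨T'', e', he', b, hb, hdb⟩ := hp₀ (p + r) (by omega) n (n + 1 + 1) rfl rfl _ hdx
    (by rw [Category.assoc, K.obj.d_comp_d, comp_zero])
  refine (mem_ZTop K rfl).2 ⟨T'', e' ≫ e, inferInstance, e' ≫ x - b, e' ≫ c + b,
    mem_sub (mem_comp hx e') (filX_le K n (by omega) hb), ?_,
    Subobject.factors_add _ _ (mem_comp hc e') (filX_le K n (by omega) hb), ?_⟩
  · rw [Preadditive.sub_comp, Category.assoc, hdb, sub_self]
  · rw [Category.assoc, hz', Preadditive.comp_add]; abel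

lemma exists_BSub_eq (hK : Edge K) (p n : ℤ) : ∃ r₀ : ℕ, ∀ r, r₀ ≤ r → K.BSub r p n = K.BBot p n := by
  obtain ⟨p₁, hp₁⟩ := hK.inj n
  refine ⟨(p + 1 - p₁).toNat + 1, fun r hr => le_antisymm (BSub_le_BBot r p n) (le_of_mem fun T z hz => ?_)⟩
  obtain ⟨T', e, he, k, c, hdk, hc, hz'⟩ := (mem_BBot K (m := n - 1) (by omega)).1 hz
  obtain ⟨T'', e', he', b, hb, hdb⟩ := hp₁ (p + 1 - r) (by omega) (n - 1) (by omega) k
    (filX_le K n (by omega) hdk)
  refine (mem_BSub K (q := p + 1 - r) (m := n - 1) (by omega) (by omega)).2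
    ⟨T'', e' ≫ e, inferInstance, b, e' ≫ c, hb, hdb ▸ mem_comp hdk e', mem_comp hc e', ?_⟩
  rw [Category.assoc, hz', Preadditive.comp_add, hdb]

lemma isRegular (hK : Edge K) : K.IsRegular := fun p n => by
  obtain ⟨r₀, h⟩ := exists_ZSub_eq hK p n
  exact ⟨r₀, fun r hr => (h r hr).trans (h r₀ le_rfl).symm⟩

lemma weaklyConverges (hK : Edge K) : K.WeaklyConverges := fun p n => by
  obtain ⟨r₀, h⟩ := exists_ZSub_eq hK p n
  obtain ⟨r₁, h'⟩ := exists_BSub_eq hK p n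
  exact ⟨IsLeast.isGLB ⟨⟨r₀, h r₀ le_rfl⟩, by rintro _ ⟨r, rfl⟩; exact ZTop_le_ZSub r p n⟩,
    IsGreatest.isLUB ⟨⟨r₁, h' r₁ le_rfl⟩, by rintro _ ⟨r, rfl⟩; exact BSub_le_BBot r p n⟩⟩

lemma HFil_isFinite (hK : Edge K) (n : ℤ) : (K.HFil n).IsFinite := by
  obtain ⟨p₁, hp₁⟩ := hK.surj n
  obtain ⟨p₀, hp₀⟩ := hK.null n
  refine ⟨⟨p₁, show K.filH p₁ n = ⊤ from ext_mem fun T γ => ⟨fun _ => mem_top γ, fun _ => ?_⟩⟩,
    ⟨p₀, show K.filH p₀ n = ⊥ from le_bot_iff.1 (le_of_mem fun T γ hγ => ?_)⟩⟩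
  · obtain ⟨T', e, he, z, hz, hγ⟩ := exists_hcls (n' := n + 1) rfl K.obj γ
    obtain ⟨T'', e', he', y, k, hy, hy0, hzy⟩ := hp₁ p₁ le_rfl (n - 1) (n + 1) (by omega) rfl z hz
    refine (mem_filH K (n' := n + 1) rfl).2 ⟨T'', e' ≫ e, inferInstance, y, hy0, hy, ?_⟩
    rw [Category.assoc, hγ, comp_hcls]
    exact (K.obj.liftCycles_comp_homologyπ_eq_iff_up_to_refinements (n - 1) n (n + 1) (by simp) (by simp)
      _ _ _ _).2 ⟨T'', 𝟙 _, inferInstance, k, by simpa using hzy⟩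
  · obtain ⟨T', e, he, z, hz, hzp, hγ⟩ := (mem_filH K (n' := n + 1) rfl).1 hγ
    obtain ⟨T'', e', he', b, hb, hbz⟩ := hp₀ p₀ le_rfl (n - 1) (n + 1) (by omega) rfl z hzp hz
    refine factors_local _ e (mem_bot.2 (hγ.trans ?_))
    exact (hcls_eq_zero_iff rfl (by omega) _ _ _).2 ⟨T'', e', he', b, hbz⟩

section filObj

variable {L : SpSeq.FilObj A}

lemma separated_of_finite (h : L.IsFinite) : L.IsSeparated := by
  obtain ⟨-, b, hb⟩ := h
  exact IsLeast.isGLB ⟨⟨b, hb⟩, fun _ _ => bot_le⟩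

lemma exhaustive_of_finite (h : L.IsFinite) : L.IsExhaustive := by
  obtain ⟨⟨a, ha⟩, -⟩ := h
  exact IsGreatest.isLUB ⟨⟨a, ha⟩, fun _ _ => le_top⟩

lemma π_quotMap {p q : ℤ} (h : p ≤ q) :
    cokernel.π (L.fil q).arrow ≫ L.quotMap h = cokernel.π (L.fil p).arrow :=
  cokernel.π_desc _ _ _

lemma complete_of_finite (h : L.IsFinite) : L.IsComplete := by
  obtain ⟨-, b, hb⟩ := h
  intro T f hf
  have hiso : ∀ q, b ≤ q → IsIso (cokernel.π (L.fil q).arrow) := fun q hq => by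
    have h0 : L.fil q = ⊥ := le_bot_iff.1 ((L.anti hq).trans hb.le)
    have : (L.fil q).arrow = 0 := by rw [h0]; exact Subobject.bot_arrow
    exact cokernel.π_of_zero this
  have := hiso b le_rfl
  refine ⟨f b ≫ inv (cokernel.π (L.fil b).arrow), fun p => ?_⟩
  rcases le_total p b with hp | hp
  · rw [← π_quotMap hp, Category.assoc, IsIso.inv_hom_id_assoc, hf]
  · have := hiso p hp
    have hm : IsIso (L.quotMap hp) := by
      have := π_quotMap (L := L) hp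
      have h2 : IsIso (cokernel.π (L.fil p).arrow ≫ L.quotMap hp) := by rw [this]; infer_instance
      exact IsIso.of_isIso_comp_left (cokernel.π (L.fil p).arrow) _
    rw [← cancel_mono (L.quotMap hp), hf, Category.assoc, π_quotMap, Category.assoc, IsIso.inv_hom_id,
      Category.comp_id]

end filObj

theorem converges (hK : Edge K) : K.Converges :=
  ⟨isRegular hK, ⟨weaklyConverges hK, fun n => ⟨separated_of_finite (HFil_isFinite hK n),
    exhaustive_of_finite (HFil_isFinite hK n)⟩⟩, fun n => complete_of_finite (HFil_isFinite hK n)⟩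

theorem isBounded_zero (hK : ∀ n : ℤ, (K.XFil n).IsFinite) : K.IsBounded 0 := fun n => by
  obtain ⟨⟨a, ha⟩, b, hb⟩ := hK n
  refine (Set.finite_Icc (a - 1) b).subset fun p hp => ?_
  by_contra hpn
  refine hp (isZero_subquot _ (le_of_mem fun T z hz => ?_))
  obtain ⟨T', e, he, x, c, hx, -, hc, hz'⟩ := (mem_ZSub K rfl rfl).1 hz
  refine (mem_BSub K (q := p + 1) (m := n - 1) (by simp) (by omega)).2
    ⟨T', e, he, 0, x + c, Subobject.factors_zero, by simp [Subobject.factors_zero],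
      Subobject.factors_add _ _ ?_ hc, by rw [hz']; simp⟩
  rw [Set.mem_Icc, not_and_or, not_le, not_le] at hpn
  rcases hpn with h | h
  · rw [filX_eq_top ha (show p + 1 ≤ a by omega)]; exact mem_top x
  · rw [filX_eq_bot hb h.le, mem_bot] at hx
    rw [hx]; exact Subobject.factors_zero

theorem isBounded_one (hK : Edge K) : K.IsBounded 1 := fun n => by
  obtain ⟨a₀, ha₀⟩ := hK.null n
  obtain ⟨b₀, hb₀⟩ := hK.null (n + 1)
  obtain ⟨a₁, ha₁⟩ := hK.inj n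
  obtain ⟨b₁, hb₁⟩ := hK.inj (n + 1)
  obtain ⟨c₁, hc₁⟩ := hK.surj n
  refine (Set.finite_Icc (min a₁ (min b₁ c₁) - 1) (max a₀ b₀)).subset fun p hp => ?_
  by_contra hpn
  refine hp (isZero_subquot _ (le_of_mem fun T z hz => ?_))
  obtain ⟨T', e, he, x, c, hx, hdx, hc, hz'⟩ := (mem_ZSub K rfl rfl).1 hz
  rw [Nat.cast_one] at hdx
  have key : ∃ (T'' : A) (e' : T'' ⟶ T') (_ : Epi e') (b : T'' ⟶ K.obj.X (n - 1)) (c' : T'' ⟶ K.obj.X n),
      (K.filX p (n - 1)).Factors b ∧ (K.filX (p + 1) n).Factors c' ∧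
        e' ≫ x = b ≫ K.obj.d (n - 1) n + c' := by
    rw [Set.mem_Icc, not_and_or, not_le, not_le] at hpn
    rcases hpn with h | h
    · obtain ⟨T₁, e₁, he₁, c₁', hc₁', hd₁⟩ := hb₁ (p + 1) (by omega) n rfl x hdx
      have hcyc : (e₁ ≫ x - c₁') ≫ K.obj.d n (n + 1) = 0 := by
        rw [Preadditive.sub_comp, Category.assoc, hd₁, sub_self]
      obtain ⟨T₂, e₂, he₂, y, k, hy, hy0, hky⟩ := hc₁ (p + 1) (by omega) (n - 1) (n + 1) (by omega) rfl _ hcyc
      have hkd : (K.filX p n).Factors (k ≫ K.obj.d (n - 1) n) := by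
        rw [← sub_eq_iff_eq_add'.2 hky]
        exact mem_sub (mem_comp (mem_sub (mem_comp hx e₁) (filX_le K n (by omega) hc₁')) e₂)
          (filX_le K n (by omega) hy)
      obtain ⟨T₃, e₃, he₃, b, hb, hbd⟩ := ha₁ p (by omega) (n - 1) (by omega) k hkd
      refine ⟨T₃, e₃ ≫ e₂ ≫ e₁, inferInstance, b, e₃ ≫ (y + e₂ ≫ c₁'), hb,
        mem_comp (Subobject.factors_add _ _ hy (mem_comp hc₁' e₂)) e₃, ?_⟩
      rw [← hbd]
      simp only [Preadditive.comp_sub] at hky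
      rw [Category.assoc, Category.assoc, sub_eq_iff_eq_add.1 hky]
      simp only [Preadditive.comp_add]
      abel
    · obtain ⟨T₁, e₁, he₁, c₁', hc₁', hd₁⟩ := hb₀ (p + 1) (by omega) n (n + 1 + 1) rfl rfl _ hdx
        (by rw [Category.assoc, K.obj.d_comp_d, comp_zero])
      obtain ⟨T₂, e₂, he₂, b, hb, hbd⟩ := ha₀ p (by omega) (n - 1) (n + 1) (by omega) rfl
        (e₁ ≫ x - c₁') (mem_sub (mem_comp hx e₁) (filX_le K n (by omega) hc₁')) (by
          rw [Preadditive.sub_comp, Category.assoc, hd₁, sub_self])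
      refine ⟨T₂, e₂ ≫ e₁, inferInstance, b, e₂ ≫ c₁', hb, mem_comp hc₁' e₂, ?_⟩
      rw [← hbd, Category.assoc, Preadditive.comp_sub, sub_add_cancel]
  obtain ⟨T'', e', he', b, c', hb, hc', hx'⟩ := key
  refine (mem_BSub K (q := p) (m := n - 1) (by simp) (by omega)).2
    ⟨T'', e' ≫ e, inferInstance, b, c' + e' ≫ c, hb, filX_d K hb n,
      Subobject.factors_add _ _ hc' (mem_comp hc e'), ?_⟩
  rw [Category.assoc, hz', Preadditive.comp_add, hx', add_assoc]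

end Groth.Agent.Lib.FilCx.Conv
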