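/-
The differentials of the spectral sequence of a filtered complex and weak Serre classes.
-/
import Groth.Agent.Lib.FilCx.Conv
import Mathlib.Algebra.Homology.ExactSequence
import Mathlib.CategoryTheory.ObjectProperty.ClosedUnderIsomorphisms

set_option autoImplicit false

open CategoryTheory CategoryTheory.Limits

namespace Groth.Agent.Lib.FilCx.Diff

open Groth.Agent.Lib.IndCof.Basic (factors_local le_of_mem)
open Groth.Agent.Lib.FilCx.Basic

universe v u

variable {A : Type u} [Category.{v} A] [Abelian A]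

section serre

variable (P : ObjectProperty A)

/-- A weak Serre class. -/
structure Weak : Prop where
  zero : ∀ Y : A, IsZero Y → P Y
  kernel : ∀ {X Y : A} (f : X ⟶ Y), P X → P Y → P (kernel f)
  coker : ∀ {X Y Z : A} (f : X ⟶ Y) (g : Y ⟶ Z) (w : f ≫ g = 0),
    (ShortComplex.mk f g w).Exact → Epi g → P X → P Y → P Z
  ext : ∀ {X Y Z : A} (f : X ⟶ Y) (g : Y ⟶ Z) (w : f ≫ g = 0),
    (ShortComplex.mk f g w).Exact → Mono f → Epi g → P X → P Z → P Y

variable {P}

lemma weak_of_five [P.IsClosedUnderIsomorphisms] (h0 : ∃ Z : A, IsZero Z ∧ P Z)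
    (hP : ∀ S : ComposableArrows A 4, S.Exact → P (S.obj 0) → P (S.obj 1) → P (S.obj 3) → P (S.obj 4) →
      P (S.obj 2)) : Weak P := by
  obtain ⟨Z₀, hZ, hPZ⟩ := h0
  have five : ∀ {X₀ X₁ X₂ X₃ X₄ : A} (a : X₀ ⟶ X₁) (b : X₁ ⟶ X₂) (c : X₂ ⟶ X₃) (d : X₃ ⟶ X₄)
      (wab : a ≫ b = 0) (wbc : b ≫ c = 0) (wcd : c ≫ d = 0),
      (ShortComplex.mk a b wab).Exact → (ShortComplex.mk b c wbc).Exact → (ShortComplex.mk c d wcd).Exact →
      P X₀ → P X₁ → P X₃ → P X₄ → P X₂ := by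
    intro X₀ X₁ X₂ X₃ X₄ a b c d wab wbc wcd h1 h2 h3 p0 p1 p3 p4
    exact hP (ComposableArrows.mk₄ a b c d) (ComposableArrows.exact_of_δ₀ h1.exact_toComposableArrows
      (ComposableArrows.exact_of_δ₀ h2.exact_toComposableArrows h3.exact_toComposableArrows)) p0 p1 p3 p4
  have e0 : ∀ {X : A} (f : Z₀ ⟶ X) (g : Z₀ ⟶ Z₀) (w : g ≫ f = 0), (ShortComplex.mk g f w).Exact :=
    fun f g w => ShortComplex.exact_of_isZero_X₂ _ hZ
  refine ⟨fun Y hY => P.prop_of_iso (hZ.iso hY) hPZ, fun {X Y} f hX hY => ?_,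
    fun {X Y Z} f g w hex _ hX hY => ?_, fun {X Y Z} f g w hex _ _ hX hZ' => ?_⟩
  · refine five (0 : Z₀ ⟶ Z₀) (0 : Z₀ ⟶ Limits.kernel f) (kernel.ι f) f (zero_comp) zero_comp
      (kernel.condition f) (e0 _ _ _) ((ShortComplex.exact_iff_mono _ rfl).2 (inferInstanceAs (Mono (kernel.ι f))))
      (ShortComplex.exact_of_f_is_kernel _ (kernelIsKernel f)) hPZ hPZ hX hY
  · exact five f g (0 : Z ⟶ Z₀) (0 : Z₀ ⟶ Z₀) w comp_zero comp_zero hex
      ((ShortComplex.exact_iff_epi _ rfl).2 (inferInstanceAs (Epi g)))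
      (ShortComplex.exact_of_isZero_X₂ _ hZ) hX hY hPZ hPZ
  · exact five (0 : Z₀ ⟶ X) f g (0 : Z ⟶ Z₀) zero_comp w comp_zero
      ((ShortComplex.exact_iff_mono _ rfl).2 (inferInstanceAs (Mono f))) hex
      ((ShortComplex.exact_iff_epi _ rfl).2 (inferInstanceAs (Epi g))) hPZ hX hZ' hPZ

end serre

variable (K : SpSeq.FilCx A) {T : A}

/-- Elements of `F^p` with differential in `F^(p+r)`. -/
noncomputable def X0 (r : ℕ) (p n : ℤ) : Subobject (K.obj.X n) :=
  K.filX p n ⊓ (Subobject.pullback (K.obj.d n (n + 1))).obj (K.filX (p + r) (n + 1))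

lemma mem_X0 {r : ℕ} {p n p' n' : ℤ} (hp : p + r = p') (hn : n + 1 = n') {x : T ⟶ K.obj.X n} :
    (X0 K r p n).Factors x ↔ (K.filX p n).Factors x ∧ (K.filX p' n').Factors (x ≫ K.obj.d n n') := by
  subst hp hn
  rw [X0, mem_inf, Limits.pullback_factors_iff]

lemma X0_le_ZSub (r : ℕ) (p n : ℤ) : X0 K r p n ≤ K.ZSub r p n := le_sup_left

/-- The class of an element. -/
noncomputable def elt (r : ℕ) (p n : ℤ) {x : T ⟶ K.obj.X n} (hx : (X0 K r p n).Factors x) : T ⟶ K.E r p n :=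
  cls (K.BSub_le_ZSub r p n) x (Subobject.factors_of_le x (X0_le_ZSub K r p n) hx)

lemma elt_eq_zero_iff {r : ℕ} {p n : ℤ} {x : T ⟶ K.obj.X n} (hx : (X0 K r p n).Factors x) :
    elt K r p n hx = 0 ↔ (K.BSub r p n).Factors x :=
  cls_eq_zero_iff _ _

lemma comp_elt {r : ℕ} {p n : ℤ} {x : T ⟶ K.obj.X n} (hx : (X0 K r p n).Factors x) {T' : A} (e : T' ⟶ T) :
    e ≫ elt K r p n hx = elt K r p n (mem_comp hx e) :=
  comp_cls _ _ _ _

lemma elt_congr {r : ℕ} {p n : ℤ} {x x' : T ⟶ K.obj.X n} (hx : (X0 K r p n).Factors x)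
    (hx' : (X0 K r p n).Factors x') (e : x = x') : elt K r p n hx = elt K r p n hx' := by
  subst e; rfl

lemma elt_add {r : ℕ} {p n : ℤ} {x x' : T ⟶ K.obj.X n} (hx : (X0 K r p n).Factors x)
    (hx' : (X0 K r p n).Factors x') :
    elt K r p n (Subobject.factors_add _ _ hx hx') = elt K r p n hx + elt K r p n hx' :=
  cls_add _ _ _

lemma elt_eq_of_sub {r : ℕ} {p n : ℤ} {x x' : T ⟶ K.obj.X n} (hx : (X0 K r p n).Factors x)
    (hx' : (X0 K r p n).Factors x') (h : (K.BSub r p n).Factors (x - x')) :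
    elt K r p n hx = elt K r p n hx' :=
  (cls_eq_iff _ _ _).2 h

lemma succ_mem_BSub {r : ℕ} {p n : ℤ} {c : T ⟶ K.obj.X n} (hc : (K.filX (p + 1) n).Factors c) :
    (K.BSub r p n).Factors c :=
  Subobject.sup_factors_of_factors_right hc

lemma exists_elt {r : ℕ} {p n : ℤ} (q : T ⟶ K.E r p n) :
    ∃ (T' : A) (e : T' ⟶ T) (_ : Epi e) (x : T' ⟶ K.obj.X n) (hx : (X0 K r p n).Factors x),
      e ≫ q = elt K r p n hx := by
  obtain ⟨T₁, e₁, he₁, z, hz, hq⟩ := exists_cls (K.BSub_le_ZSub r p n) q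
  obtain ⟨T₂, e₂, he₂, x, c, hx, hdx, hc, hz'⟩ := (mem_ZSub K rfl rfl).1 hz
  have hx0 : (X0 K r p n).Factors x := (mem_X0 K rfl rfl).2 ⟨hx, hdx⟩
  refine ⟨T₂, e₂ ≫ e₁, inferInstance, x, hx0, ?_⟩
  rw [Category.assoc]
  erw [hq]
  exact (comp_cls _ e₂ z hz).trans
    ((cls_eq_iff _ _ _).2 (by rw [hz', add_sub_cancel_left]; exact succ_mem_BSub K hc))

/-- The projection from `X0`. -/
noncomputable def πE (r : ℕ) (p n : ℤ) : (X0 K r p n : A) ⟶ K.E r p n :=
  elt K r p n (Subobject.factors_self (X0 K r p n))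

lemma comp_πE {r : ℕ} {p n : ℤ} (y : T ⟶ (X0 K r p n : A)) :
    y ≫ πE K r p n = elt K r p n (mem_arrow_comp (X0 K r p n) y) :=
  comp_elt K _ _

lemma factorThru_πE {r : ℕ} {p n : ℤ} {x : T ⟶ K.obj.X n} (hx : (X0 K r p n).Factors x) :
    (X0 K r p n).factorThru x hx ≫ πE K r p n = elt K r p n hx := by
  rw [comp_πE]
  exact elt_congr K _ _ (Subobject.factorThru_arrow _ _ _)

instance epi_πE (r : ℕ) (p n : ℤ) : Epi (πE K r p n) := by
  rw [epi_iff_surjective_up_to_refinements]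
  intro T q
  obtain ⟨T', e, he, x, hx, hq⟩ := exists_elt K q
  exact ⟨T', e, he, (X0 K r p n).factorThru x hx, hq.trans (factorThru_πE K hx).symm⟩

/-- Descending a map defined on representatives. -/
noncomputable def descE {r : ℕ} {p n : ℤ} {W : A} (g : (X0 K r p n : A) ⟶ W)
    (hg : kernel.ι (πE K r p n) ≫ g = 0) : K.E r p n ⟶ W :=
  Abelian.epiDesc (πE K r p n) g hg

lemma πE_descE {r : ℕ} {p n : ℤ} {W : A} (g : (X0 K r p n : A) ⟶ W) (hg : kernel.ι (πE K r p n) ≫ g = 0) :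
    πE K r p n ≫ descE K g hg = g :=
  Abelian.comp_epiDesc _ _ _

variable {K}

lemma X0_diff {r : ℕ} {p n p' n' : ℤ} (hp : p + r = p') (hn : n + 1 = n') {x : T ⟶ K.obj.X n}
    (hx : (X0 K r p n).Factors x) : (X0 K r p' n').Factors (x ≫ K.obj.d n n') :=
  (mem_X0 K rfl rfl).2 ⟨((mem_X0 K hp hn).1 hx).2, by
    rw [Category.assoc, K.obj.d_comp_d, comp_zero]; exact Subobject.factors_zero⟩

variable (K)

/-- The differential. -/
noncomputable def D (r : ℕ) {p n p' n' : ℤ} (hp : p + r = p') (hn : n + 1 = n') :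
    K.E r p n ⟶ K.E r p' n' :=
  descE K (elt K r p' n' (X0_diff hp hn (Subobject.factors_self (X0 K r p n)))) (by
    have h1 : elt K r p n (mem_arrow_comp (X0 K r p n) (kernel.ι (πE K r p n))) = 0 := by
      rw [← comp_πE]; exact kernel.condition _
    rw [elt_eq_zero_iff, mem_BSub K (q := p + 1 - r) (m := n - 1) (by omega) (by omega)] at h1
    obtain ⟨T', e, he, b, c, hb, hdb, hc, hbc⟩ := h1
    rw [comp_elt, elt_eq_zero_iff]
    refine factors_local _ e ?_
    have e1 : e ≫ kernel.ι (πE K r p n) ≫ (X0 K r p n).arrow ≫ K.obj.d n n' = c ≫ K.obj.d n n' := by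
      have := hbc =≫ K.obj.d n n'
      simpa only [Category.assoc, Preadditive.add_comp, K.obj.d_comp_d, comp_zero, zero_add] using this
    rw [e1]
    refine (mem_BSub K (q := p + 1) (m := n) (by omega) hn).2
      ⟨T', 𝟙 _, inferInstance, c, 0, hc, ?_, Subobject.factors_zero, by simp⟩
    rw [← e1]
    exact mem_comp (mem_comp ((mem_X0 K hp hn).1 (Subobject.factors_self (X0 K r p n))).2 _) _)

lemma elt_D {r : ℕ} {p n p' n' : ℤ} (hp : p + r = p') (hn : n + 1 = n') {x : T ⟶ K.obj.X n}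
    (hx : (X0 K r p n).Factors x) :
    elt K r p n hx ≫ D K r hp hn = elt K r p' n' (X0_diff hp hn hx) := by
  rw [← factorThru_πE, Category.assoc, D, πE_descE, comp_elt]
  exact elt_congr K _ _ (Subobject.factorThru_arrow_assoc _ _ _ _)

lemma X0_succ_le (r : ℕ) (p n : ℤ) : X0 K (r + 1) p n ≤ X0 K r p n :=
  inf_le_inf_left _ (((Subobject.pullback (K.obj.d n (n + 1))).map
    (homOfLE (K.filX_anti (n + 1) (show p + (r : ℤ) ≤ p + ((r + 1 : ℕ) : ℤ) by omega)))).le)

variable {P : ObjectProperty A} (hP : Weak P)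
include hP

theorem mem_succ (r : ℕ) (hr : ∀ p n : ℤ, P (K.E r p n)) (p n : ℤ) : P (K.E (r + 1) p n) := by
  have hp : p + r = p + r := rfl
  let D₁ := D K r (p := p) (n := n) hp rfl
  let D₀ := D K r (show (p - r) + r = p by omega) (show (n - 1) + 1 = n by omega)
  have hle : ∀ {T : A} (y : T ⟶ (X0 K (r + 1) p n : A)),
      (X0 K r p n).Factors (y ≫ (X0 K (r + 1) p n).arrow) := fun y =>
    Subobject.factors_of_le _ (X0_succ_le K r p n) (mem_arrow_comp _ y)
  let k : (X0 K (r + 1) p n : A) ⟶ Limits.kernel D₁ := kernel.lift D₁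
    (elt K r p n (Subobject.factors_of_le _ (X0_succ_le K r p n) (Subobject.factors_self _))) (by
      rw [elt_D, elt_eq_zero_iff]
      exact succ_mem_BSub K (filX_le K _ (by omega)
        ((mem_X0 K rfl rfl).1 (Subobject.factors_self (X0 K (r + 1) p n))).2))
  have hk : Epi k := by
    rw [epi_iff_surjective_up_to_refinements]
    intro T q
    obtain ⟨T₁, e₁, he₁, x, hx, hq⟩ := exists_elt K (q ≫ kernel.ι D₁)
    have h0 : elt K r (p + r) (n + 1) (X0_diff hp rfl hx) = 0 := by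
      rw [← elt_D K hp rfl hx, ← hq, Category.assoc, Category.assoc, kernel.condition, comp_zero, comp_zero]
    rw [elt_eq_zero_iff, mem_BSub K (q := p + 1) (m := n) (by omega) rfl] at h0
    obtain ⟨T₂, e₂, he₂, b, c, hb, hdb, hc, hbc⟩ := h0
    have hb0 : (X0 K r p n).Factors b := (mem_X0 K rfl rfl).2 ⟨filX_le K n (by omega) hb, hdb⟩
    have hy : (X0 K (r + 1) p n).Factors (e₂ ≫ x - b) := by
      refine (mem_X0 K (show p + ((r + 1 : ℕ) : ℤ) = p + r + 1 by push_cast; ring) rfl).2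
        ⟨mem_sub (mem_comp ((mem_X0 K rfl rfl).1 hx).1 e₂) (filX_le K n (by omega) hb), ?_⟩
      rw [Preadditive.sub_comp, Category.assoc, hbc, add_sub_cancel_left]
      exact hc
    refine ⟨T₂, e₂ ≫ e₁, inferInstance, (X0 K (r + 1) p n).factorThru _ hy, ?_⟩
    apply (cancel_mono (kernel.ι D₁)).1
    rw [Category.assoc, Category.assoc, hq, Category.assoc, kernel.lift_ι, comp_elt, comp_elt]
    refine elt_eq_of_sub K _ _ ?_
    rw [Subobject.factorThru_arrow, sub_sub_cancel]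
    exact succ_mem_BSub K hb
  have hψ0 : kernel.ι k ≫ πE K (r + 1) p n = 0 := by
    have h := kernel.condition k =≫ kernel.ι D₁
    rw [Category.assoc, kernel.lift_ι, zero_comp, comp_elt, elt_eq_zero_iff,
      mem_BSub K (q := p + 1 - r) (m := n - 1) (by omega) (by omega)] at h
    obtain ⟨T', e, he, b, c, hb, hdb, hc, hbc⟩ := h
    rw [comp_πE, elt_eq_zero_iff]
    refine factors_local _ e ((mem_BSub K (q := p - r) (m := n - 1) (by omega) (by omega)).2
      ⟨T', 𝟙 _, inferInstance, b, c, filX_le K _ (by omega) hb, hdb, hc, by rw [Category.id_comp, hbc]⟩)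
  let ψ : Limits.kernel D₁ ⟶ K.E (r + 1) p n := Abelian.epiDesc k _ hψ0
  have hψ : k ≫ ψ = πE K (r + 1) p n :=
    Abelian.comp_epiDesc _ _ _
  have hDD : D₀ ≫ D₁ = 0 := by
    rw [← cancel_epi (πE K r (p - r) (n - 1)), comp_zero, ← Category.assoc]
    change (elt K r _ _ _ ≫ D₀) ≫ D₁ = 0
    rw [elt_D, elt_D, elt_eq_zero_iff, Category.assoc, K.obj.d_comp_d, comp_zero]
    exact Subobject.factors_zero
  let u : K.E r (p - r) (n - 1) ⟶ Limits.kernel D₁ := kernel.lift D₁ D₀ hDD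
  have hepi : Epi ψ := by
    have : Epi (k ≫ ψ) := by rw [hψ]; infer_instance
    exact epi_of_epi k ψ
  have huψ : u ≫ ψ = 0 := by
    rw [← cancel_epi (πE K r (p - r) (n - 1)), comp_zero]
    have hx := Subobject.factors_self (X0 K r (p - r) (n - 1))
    have hy : (X0 K (r + 1) p n).Factors ((X0 K r (p - r) (n - 1)).arrow ≫ K.obj.d (n - 1) n) := by
      refine (mem_X0 K rfl rfl).2 ⟨((mem_X0 K (by omega) (by omega)).1 hx).2, ?_⟩
      rw [Category.assoc, K.obj.d_comp_d, comp_zero]; exact Subobject.factors_zero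
    have e1 : πE K r (p - r) (n - 1) ≫ u = (X0 K (r + 1) p n).factorThru _ hy ≫ k := by
      apply (cancel_mono (kernel.ι D₁)).1
      rw [Category.assoc, kernel.lift_ι, Category.assoc, kernel.lift_ι, comp_elt]
      change elt K r _ _ _ ≫ D₀ = _
      rw [elt_D]
      exact elt_congr K _ _ (Subobject.factorThru_arrow _ _ _).symm
    rw [← Category.assoc, e1, Category.assoc, hψ, factorThru_πE, elt_eq_zero_iff,
      mem_BSub K (q := p - r) (m := n - 1) (by omega) (by omega)]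
    exact ⟨_, 𝟙 _, inferInstance, (X0 K r (p - r) (n - 1)).arrow, 0, ((mem_X0 K rfl rfl).1 hx).1,
      ((mem_X0 K (show p - r + r = p by omega) (show n - 1 + 1 = n by omega)).1 hx).2,
      Subobject.factors_zero, by simp⟩
  refine hP.coker u ψ huψ ?_ hepi (hr _ _) (hP.kernel D₁ (hr _ _) (hr _ _))
  rw [ShortComplex.exact_iff_exact_up_to_refinements]
  intro T q hq
  have hq' : q ≫ ψ = 0 := hq
  obtain ⟨T₁, e₁, he₁, y, hy⟩ := surjective_up_to_refinements_of_epi k q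
  have h0 : y ≫ πE K (r + 1) p n = 0 := by rw [← hψ, ← reassoc_of% hy, hq', comp_zero]
  rw [comp_πE, elt_eq_zero_iff, mem_BSub K (q := p - r) (m := n - 1) (by omega) (by omega)] at h0
  obtain ⟨T₂, e₂, he₂, b, c, hb, hdb, hc, hbc⟩ := h0
  have hb0 : (X0 K r (p - r) (n - 1)).Factors b := (mem_X0 K (by omega) (by omega)).2 ⟨hb, hdb⟩
  refine ⟨T₂, e₂ ≫ e₁, inferInstance, elt K r _ _ hb0, (cancel_mono (kernel.ι D₁)).1 ?_⟩
  change ((e₂ ≫ e₁) ≫ q) ≫ _ = (elt K r _ _ hb0 ≫ u) ≫ _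
  rw [Category.assoc (elt K r _ _ hb0), kernel.lift_ι, elt_D, Category.assoc e₂ e₁, hy, Category.assoc,
    Category.assoc, kernel.lift_ι, comp_elt, comp_elt]
  refine elt_eq_of_sub K _ _ ?_
  rw [hbc, add_sub_cancel_left]
  exact succ_mem_BSub K hc

omit hP in
lemma filH_le {p : ℤ} {n : ℤ} : K.filH (p + 1) n ≤ K.filH p n := K.filH_anti n (by omega)

theorem gr_mem [P.IsClosedUnderIsomorphisms] (p n : ℤ) {r : ℕ} (hr : P (K.E r p n))
    (hZ : K.ZSub r p n = K.ZTop p n) (hB : K.BSub r p n = K.BBot p n) :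
    P (SpSeq.subquot (K.filH p n) (K.filH (p + 1) n) (filH_le K)) := by
  let h := filH_le K (p := p) (n := n)
  let S : Subobject (K.obj.X n) := K.filX p n ⊓ kernelSubobject (K.obj.d n (n + 1))
  have hS : ∀ {T : A} {x : T ⟶ K.obj.X n}, S.Factors x ↔
      (K.filX p n).Factors x ∧ x ≫ K.obj.d n (n + 1) = 0 := fun {T x} => by
    rw [mem_inf, kernelSubobject_factors_iff]
  obtain ⟨hs1, hs2⟩ := hS.1 (Subobject.factors_self S)
  have hSX : S ≤ X0 K r p n := inf_le_inf_left _ (SpSeq.FilCx.kernelSubobject_le_pullback _ _)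
  let a : (S : A) ⟶ K.E r p n := elt K r p n (Subobject.factors_of_le _ hSX (Subobject.factors_self S))
  have hmemH : ∀ {T : A} (x : T ⟶ K.obj.X n) (hx0 : x ≫ K.obj.d n (n + 1) = 0), (K.filX p n).Factors x →
      (K.filH p n).Factors (hcls rfl K.obj x hx0) := fun {T} x hx0 hx =>
    (mem_filH K rfl).2 ⟨T, 𝟙 _, inferInstance, x, hx0, hx, Category.id_comp _⟩
  let g : (S : A) ⟶ SpSeq.subquot (K.filH p n) (K.filH (p + 1) n) h :=
    cls h (hcls rfl K.obj S.arrow hs2) (hmemH _ hs2 hs1)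
  have ha : Epi a := by
    rw [epi_iff_surjective_up_to_refinements]
    intro T q
    obtain ⟨T₁, e₁, he₁, x, hx, hq⟩ := exists_elt K q
    have hxz : (K.ZTop p n).Factors x := hZ ▸ Subobject.factors_of_le _ (X0_le_ZSub K r p n) hx
    obtain ⟨T₂, e₂, he₂, y, c, hy, hy0, hc, hz⟩ := (mem_ZTop K rfl).1 hxz
    refine ⟨T₂, e₂ ≫ e₁, inferInstance, S.factorThru y (hS.2 ⟨hy, hy0⟩), ?_⟩
    rw [Category.assoc, hq, comp_elt, comp_elt]
    refine elt_eq_of_sub K _ _ ?_
    rw [Subobject.factorThru_arrow, hz, add_sub_cancel_left]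
    exact succ_mem_BSub K hc
  have hg : Epi g := by
    rw [epi_iff_surjective_up_to_refinements]
    intro T q
    obtain ⟨T₁, e₁, he₁, γ, hγ, hq⟩ := exists_cls h q
    obtain ⟨T₂, e₂, he₂, z, hz, hzp, hz'⟩ := (mem_filH K (n' := n + 1) rfl).1 hγ
    refine ⟨T₂, e₂ ≫ e₁, inferInstance, S.factorThru z (hS.2 ⟨hzp, hz⟩), ?_⟩
    rw [Category.assoc, hq, comp_cls, comp_cls]
    refine cls_congr _ _ _ ?_
    rw [hz', comp_hcls]
    exact hcls_congr rfl _ _ _ (Subobject.factorThru_arrow _ _ _).symm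
  have hker : ∀ {T : A} (t : T ⟶ (S : A)), t ≫ a = 0 ↔ t ≫ g = 0 := by
    intro T t
    obtain ⟨ht1, ht2⟩ := hS.1 (mem_arrow_comp S t)
    rw [comp_elt, elt_eq_zero_iff, hB, comp_cls, cls_eq_zero_iff, comp_hcls, mem_BBot K (m := n - 1) (by omega)]
    constructor
    · rintro ⟨T', e, he, b, c, hdb, hc, hbc⟩
      have hc0 : c ≫ K.obj.d n (n + 1) = 0 := by
        have := hbc =≫ K.obj.d n (n + 1)
        rw [Category.assoc, ht2, comp_zero, Preadditive.add_comp, Category.assoc, K.obj.d_comp_d,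
          comp_zero, zero_add] at this
        exact this.symm
      refine (mem_filH K rfl).2 ⟨T', e, he, c, hc0, hc, ?_⟩
      rw [comp_hcls]
      exact (K.obj.liftCycles_comp_homologyπ_eq_iff_up_to_refinements (n - 1) n (n + 1) (by simp) (by simp)
        _ _ _ _).2 ⟨T', 𝟙 _, inferInstance, b, by rw [Category.id_comp, Category.id_comp, hbc, add_comm]⟩
    · intro hh
      obtain ⟨T₁, e₁, he₁, z, hz, hzp, hz'⟩ := (mem_filH K (n' := n + 1) rfl).1 hh
      rw [comp_hcls] at hz'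
      obtain ⟨T₂, e₂, he₂, b, hb⟩ := (K.obj.liftCycles_comp_homologyπ_eq_iff_up_to_refinements (n - 1) n
        (n + 1) (by simp) (by simp) _ _ _ _).1 hz'
      refine ⟨T₂, e₂ ≫ e₁, inferInstance, b, e₂ ≫ z, ?_, mem_comp hzp e₂, by rw [Category.assoc, hb, add_comm]⟩
      rw [← sub_eq_iff_eq_add'.2 hb]
      exact mem_sub (mem_comp (mem_comp ht1 e₁) e₂) (filX_le K n (by omega) (mem_comp hzp e₂))
  have w : kernel.ι a ≫ g = 0 := (hker _).1 (kernel.condition a)
  let ψ : K.E r p n ⟶ _ := Abelian.epiDesc a g w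
  have hψ : a ≫ ψ = g := Abelian.comp_epiDesc _ _ _
  have : Epi ψ := by
    have : Epi (a ≫ ψ) := by rw [hψ]; exact hg
    exact epi_of_epi a ψ
  have : Mono ψ := by
    refine Preadditive.mono_of_cancel_zero _ fun {T} q hq => ?_
    obtain ⟨T', e, he, t, ht⟩ := surjective_up_to_refinements_of_epi a q
    rw [← cancel_epi e, comp_zero, ht, hker, ← hψ, ← reassoc_of% ht, hq, comp_zero]
  have := isIso_of_mono_of_epi ψ
  exact P.prop_of_iso (asIso ψ) hr

theorem homology_mem [P.IsClosedUnderIsomorphisms] (hK : Groth.Agent.Lib.FilCx.Conv.Edge K) (r : ℕ)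
    (hr : ∀ p n : ℤ, P (K.E r p n)) (n : ℤ) : P (K.obj.homology n) := by
  have hall : ∀ s, ∀ p n : ℤ, P (K.E (r + s) p n) := by
    intro s
    induction s with
    | zero => exact hr
    | succ s ih => exact mem_succ K hP (r + s) ih
  have hgr : ∀ p, P (SpSeq.subquot (K.filH p n) (K.filH (p + 1) n) (filH_le K)) := fun p => by
    obtain ⟨r₀, h₀⟩ := Groth.Agent.Lib.FilCx.Conv.exists_ZSub_eq hK p n
    obtain ⟨r₁, h₁⟩ := Groth.Agent.Lib.FilCx.Conv.exists_BSub_eq hK p n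
    exact gr_mem K hP p n (hall (r₀ + r₁) p n) (h₀ _ (by omega)) (h₁ _ (by omega))
  obtain ⟨⟨a, ha⟩, b, hb⟩ := Groth.Agent.Lib.FilCx.Conv.HFil_isFinite hK n
  replace ha : K.filH a n = ⊤ := ha
  replace hb : K.filH b n = ⊥ := hb
  have hall' : ∀ j : ℕ, P (K.filH (b - j) n : A) := by
    intro j
    induction j with
    | zero =>
      rw [Nat.cast_zero, sub_zero, hb]
      exact hP.zero _ ((isZero_zero A).of_iso Subobject.botCoeIsoZero)
    | succ j ih =>
      have hrw : b - ((j + 1 : ℕ) : ℤ) + 1 = b - j := by omega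
      let p := b - ((j + 1 : ℕ) : ℤ)
      refine hP.ext (Subobject.ofLE _ _ (filH_le K (p := p) (n := n))) (qπ (filH_le K)) (ofLE_qπ _) ?_
        inferInstance inferInstance (by rw [show p + 1 = b - j from hrw]; exact ih) (hgr p)
      exact ShortComplex.exact_of_g_is_cokernel (ShortComplex.mk _ _ (ofLE_qπ _))
        (cokernelIsCokernel (Subobject.ofLE _ _ (filH_le K (p := p) (n := n))))
  have htop : K.filH (b - (b - a).toNat) n = ⊤ := top_le_iff.1 (ha.ge.trans (K.filH_anti n (by omega)))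
  have h := hall' (b - a).toNat
  rw [htop] at h
  exact P.prop_of_iso (asIso (⊤ : Subobject (K.obj.homology n)).arrow) h

end Groth.Agent.Lib.FilCx.Diff
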